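import Cfsg.Agent.H776.Co.Loc
import Mathlib.GroupTheory.SpecificGroups.Cyclic

/-!
# S5227: `Loc.symm`, `Loc.quot` (helper12)
-/

set_option autoImplicit false
set_option linter.style.longLine false

namespace Cfsg.Agent.H12.Co1

open Cfsg.Agent.H776.Co

variable {Γ : Type*} [Group Γ] {T U1 U2 : Subgroup Γ} {z : Γ} {Z : Subgroup Γ}

theorem finite (h : Loc T U1 U2 z Z) : Finite Γ := by
  refine Nat.finite_of_card_ne_zero fun h0 => ?_
  have h1 := h.ord
  rw [h0, zero_dvd_iff] at h1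
  exact absurd h1 (by norm_num)

theorem Loc.symm (h : Loc T U1 U2 z Z) : Loc T U2 U1 z Z where
  card_T := h.card_T
  syl := h.syl
  exp := h.exp
  le1 := h.le2
  le2 := h.le1
  card1 := h.card2
  card2 := h.card1
  inf := by rw [inf_comm]; exact h.inf
  z_ne := h.z_ne
  z_comm := h.z_comm
  center := h.center
  type g x hx hT := (h.type g x hx.symm hT).symm
  not_conj g := by
    by_contra hcon
    push Not at hcon
    have hfin := finite h
    have h1 : U2.map (MulAut.conj g).toMonoidHom ≤ U1 := by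
      rintro _ ⟨x, hx, rfl⟩
      exact hcon x hx
    have h2 : Nat.card ↥(U2.map (MulAut.conj g).toMonoidHom) = Nat.card U1 := by
      rw [Subgroup.card_map_of_injective (MulAut.conj g).injective, h.card1, h.card2]
    have h3 : U2.map (MulAut.conj g).toMonoidHom = U1 := Subgroup.eq_of_le_of_card_ge h1 h2.ge
    obtain ⟨x, hx, hx2⟩ := h.not_conj g⁻¹
    rw [← h3] at hx
    obtain ⟨y, hy, rfl⟩ := hx
    apply hx2
    have h4 : g⁻¹ * (MulAut.conj g).toMonoidHom y * g⁻¹⁻¹ = y := by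
      change g⁻¹ * (g * y * g⁻¹) * g⁻¹⁻¹ = y
      group
    rw [h4]
    exact hy
  Z_le := h.Z_le
  Z_card := h.Z_card
  sig := h.sig
  core := h.core
  tri x hx := h.tri x hx.symm
  reg x hx h1 h2 := h.reg x hx h2 h1
  reg_conj x hx h1 h2 y hy h3 h4 := h.reg_conj x hx h2 h1 y hy h4 h3
  ord := h.ord

section Quot

variable (h : Loc T U1 U2 z Z)

include h

theorem star {a b c : Γ} (hc : c ∈ Z) {k l : ℕ} (ha : a ^ 3 ^ k = 1) (hb : b ^ 3 ^ l = 1) (hab : a = b * c) :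
    c = 1 := by
  have hcomm : Commute b c := (Subgroup.mem_center_iff.1 (h.Z_le hc) b)
  have h1 : c ^ 3 ^ (k + l) = 1 := by
    have h2 : a ^ 3 ^ (k + l) = b ^ 3 ^ (k + l) * c ^ 3 ^ (k + l) := by rw [hab, hcomm.mul_pow]
    rw [pow_add 3 k l, pow_mul a, ha, one_pow, mul_comm (3 ^ k), pow_mul b, hb, one_pow, one_mul] at h2
    rw [pow_add, mul_comm]
    exact h2.symm
  have h2 : orderOf c ∣ 3 ^ (k + l) := orderOf_dvd_of_pow_eq_one h1
  have h3 : orderOf c ∣ Nat.card Z := by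
    have := orderOf_dvd_natCard (⟨c, hc⟩ : Z)
    rwa [Subgroup.orderOf_mk] at this
  have h4 : (3 ^ (k + l)).Coprime (Nat.card Z) :=
    Nat.Coprime.pow_left _ ((Nat.Prime.coprime_iff_not_dvd Nat.prime_three).2 h.Z_card)
  exact orderOf_eq_one_iff.1 (Nat.eq_one_of_dvd_coprimes h4 h2 h3)

theorem z_mem : z ∈ T := h.le1 (by
  have : z ∈ U1 ⊓ U2 := by rw [h.inf]; exact Subgroup.mem_zpowers z
  exact this.1)

theorem exp' {x : Γ} (hx : x ∈ T) : x ^ 3 ^ 1 = 1 := by rw [pow_one]; exact h.exp x hx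

variable [Z.Normal]

local notation "π" => QuotientGroup.mk' Z

omit h in
theorem exists_of_eq {a b : Γ} (hab : π a = π b) : ∃ c ∈ Z, a = b * c := by
  have h1 : b⁻¹ * a ∈ Z := QuotientGroup.eq.1 (show (QuotientGroup.mk b : Γ ⧸ Z) = QuotientGroup.mk a from hab.symm)
  exact ⟨b⁻¹ * a, h1, by group⟩

theorem eq_of_eq {a b : Γ} {k l : ℕ} (ha : a ^ 3 ^ k = 1) (hb : b ^ 3 ^ l = 1) (hab : π a = π b) : a = b := by
  obtain ⟨c, hc, e⟩ := exists_of_eq hab
  rw [e, star h hc ha hb e, mul_one]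

theorem inj_T {a b : Γ} (ha : a ∈ T) (hb : b ∈ T) (hab : π a = π b) : a = b :=
  eq_of_eq h (exp' h ha) (exp' h hb) hab

theorem card_map {S : Subgroup Γ} (hS : S ≤ T) : Nat.card ↥(S.map π) = Nat.card S := by
  refine (Nat.card_congr (Equiv.ofBijective (fun s : S => (⟨π s, ⟨s, s.2, rfl⟩⟩ : ↥(S.map π))) ⟨?_, ?_⟩)).symm
  · intro a b hab
    exact Subtype.ext (inj_T h (hS a.2) (hS b.2) (congrArg Subtype.val hab))
  · rintro ⟨_, ⟨s, hs, rfl⟩⟩
    exact ⟨⟨s, hs⟩, rfl⟩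

theorem mem_map_iff {S : Subgroup Γ} (hS : S ≤ T) {x : Γ} {k : ℕ} (hx : x ^ 3 ^ k = 1) : π x ∈ S.map π ↔ x ∈ S := by
  constructor
  · rintro ⟨s, hs, e⟩
    rw [← eq_of_eq h (exp' h (hS hs)) hx e]
    exact hs
  · intro hx
    exact ⟨x, hx, rfl⟩

omit h in
/-- 3-subgroups of the quotient lift. -/
theorem exists_lift [Finite Γ] {P : Subgroup (Γ ⧸ Z)} (hP : IsPGroup 3 P) :
    ∃ P' : Subgroup Γ, IsPGroup 3 P' ∧ P'.map π = P := by
  have h3 : Fact (Nat.Prime 3) := ⟨Nat.prime_three⟩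
  let f : ↥(P.comap π) →* P := (π).subgroupComap P
  have hf : Function.Surjective f := by
    rintro ⟨y, hy⟩
    obtain ⟨x, rfl⟩ := QuotientGroup.mk'_surjective Z y
    exact ⟨⟨x, hy⟩, rfl⟩
  obtain ⟨Q⟩ : Nonempty (Sylow 3 ↥(P.comap π)) := inferInstance
  have h1 : (Q.mapSurjective hf : Subgroup P) = ⊤ := by
    have h2 := (Q.mapSurjective hf).is_maximal' (Q := ⊤) (hP.of_equiv Subgroup.topEquiv.symm) le_top
    exact h2.symm
  refine ⟨(Q : Subgroup ↥(P.comap π)).map (P.comap π).subtype, Q.isPGroup'.map _, ?_⟩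
  ext y
  constructor
  · rintro ⟨_, ⟨x, _, rfl⟩, rfl⟩
    exact x.2
  · intro hy
    have h2 : (⟨y, hy⟩ : P) ∈ (Q.mapSurjective hf : Subgroup P) := by rw [h1]; trivial
    obtain ⟨x, hx, e⟩ := h2
    exact ⟨x, ⟨x, hx, rfl⟩, congrArg Subtype.val e⟩

omit h in
theorem exists_pow_of_isPGroup {P : Subgroup Γ} (hP : IsPGroup 3 P) {x : Γ} (hx : x ∈ P) : ∃ k : ℕ, x ^ 3 ^ k = 1 := by
  obtain ⟨k, hk⟩ := hP ⟨x, hx⟩
  exact ⟨k, congrArg Subtype.val hk⟩

/-- elements centralising `π x` centralise `x` -/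
theorem comm_of_comm {x g : Γ} {k : ℕ} (hx : x ^ 3 ^ k = 1) (hg : π g * π x = π x * π g) : g * x = x * g := by
  have h1 : π (g * x * g⁻¹) = π x := by
    rw [map_mul, map_mul, map_inv, hg, mul_inv_cancel_right]
  have h2 : (g * x * g⁻¹) ^ 3 ^ k = 1 := by rw [conj_pow, hx, mul_one, mul_inv_cancel]
  have h3 := eq_of_eq h h2 hx h1
  exact mul_inv_eq_iff_eq_mul.1 h3

theorem card_syl {x : Γ} (hx : x ∈ T) : Nat.card (Sylow 3 (Subgroup.centralizer ({π x} : Set (Γ ⧸ Z)))) =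
    Nat.card (Sylow 3 (Subgroup.centralizer ({x} : Set Γ))) := by
  have h3 : Fact (Nat.Prime 3) := ⟨Nat.prime_three⟩
  have hfin := finite h
  let f : Subgroup.centralizer ({x} : Set Γ) →* Subgroup.centralizer ({π x} : Set (Γ ⧸ Z)) :=
    { toFun := fun g => ⟨π g, Subgroup.mem_centralizer_singleton_iff.2 (by
        rw [← map_mul, ← map_mul, Subgroup.mem_centralizer_singleton_iff.1 g.2])⟩
      map_one' := rfl
      map_mul' := fun _ _ => rfl }
  have hf : Function.Surjective f := by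
    rintro ⟨y, hy⟩
    obtain ⟨g, rfl⟩ := QuotientGroup.mk'_surjective Z y
    exact ⟨⟨g, Subgroup.mem_centralizer_singleton_iff.2
      (comm_of_comm h (exp' h hx) (Subgroup.mem_centralizer_singleton_iff.1 hy))⟩, rfl⟩
  refine (Nat.card_congr (Equiv.ofBijective (Sylow.mapSurjective hf) ⟨?_, Sylow.mapSurjective_surjective hf 3⟩)).symm
  have key : ∀ P Q : Sylow 3 (Subgroup.centralizer ({x} : Set Γ)),
      P.mapSurjective hf = Q.mapSurjective hf → (P : Subgroup ↥(Subgroup.centralizer ({x} : Set Γ))) ≤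
        (Q : Subgroup ↥(Subgroup.centralizer ({x} : Set Γ))) := by
    intro P Q hPQ p hp
    have h1 : f p ∈ (Q.mapSurjective hf : Subgroup _) := by rw [← hPQ]; exact ⟨p, hp, rfl⟩
    obtain ⟨q, hq, e⟩ := h1
    obtain ⟨k, hk⟩ := P.isPGroup' ⟨p, hp⟩
    obtain ⟨l, hl⟩ := Q.isPGroup' ⟨q, hq⟩
    have hk' : (p : Γ) ^ 3 ^ k = 1 := congrArg Subtype.val (congrArg Subtype.val hk)
    have hl' : (q : Γ) ^ 3 ^ l = 1 := congrArg Subtype.val (congrArg Subtype.val hl)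
    have h2 : (p : Γ) = q := eq_of_eq h hk' hl' (congrArg Subtype.val e).symm
    rw [Subtype.ext h2]
    exact hq
  intro P Q hPQ
  exact Sylow.ext (le_antisymm (key P Q hPQ) (key Q P hPQ.symm))

end Quot

theorem Loc.quot (h : Loc T U1 U2 z Z) [Z.Normal] : Loc (T.map (QuotientGroup.mk' Z)) (U1.map (QuotientGroup.mk' Z))
    (U2.map (QuotientGroup.mk' Z)) (QuotientGroup.mk' Z z) ⊥ := by
  have hfin := finite h
  have h3 : Fact (Nat.Prime 3) := ⟨Nat.prime_three⟩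
  have hsurj := QuotientGroup.mk'_surjective Z
  refine
    { card_T := by rw [card_map h le_rfl, h.card_T]
      syl := fun hd => h.syl (hd.trans (Subgroup.index_map_dvd T hsurj))
      exp := ?_
      le1 := Subgroup.map_mono h.le1
      le2 := Subgroup.map_mono h.le2
      card1 := by rw [card_map h h.le1, h.card1]
      card2 := by rw [card_map h h.le2, h.card2]
      inf := ?_
      z_ne := ?_
      z_comm := ?_
      center := ?_
      type := ?_
      not_conj := ?_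
      Z_le := bot_le
      Z_card := by rw [Subgroup.card_bot]; norm_num
      sig := ?_
      core := ?_
      tri := ?_
      reg := ?_
      reg_conj := ?_
      ord := (Subgroup.card_quotient_dvd_card Z).trans h.ord }
  · rintro _ ⟨x, hx, rfl⟩
    rw [← map_pow, h.exp x hx, map_one]
  · apply le_antisymm
    · rintro _ ⟨⟨x, hx, rfl⟩, hx2⟩
      have h1 : x ∈ U2 := (mem_map_iff h h.le2 (exp' h (h.le1 hx))).1 hx2
      have h2 : x ∈ Subgroup.zpowers z := by rw [← h.inf]; exact ⟨hx, h1⟩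
      obtain ⟨n, rfl⟩ := h2
      exact ⟨n, (map_zpow _ _ _).symm⟩
    · rw [Subgroup.zpowers_le]
      have h1 : z ∈ U1 ⊓ U2 := by rw [h.inf]; exact Subgroup.mem_zpowers z
      exact ⟨⟨z, h1.1, rfl⟩, ⟨z, h1.2, rfl⟩⟩
  · intro h1
    exact h.z_ne (inj_T h (z_mem h) T.one_mem (by rw [h1, map_one]))
  · rintro _ ⟨x, hx, rfl⟩
    rw [← map_mul, ← map_mul, h.z_comm x hx]
  · rintro _ ⟨x, hx, rfl⟩ hc
    have h1 : x ∈ Subgroup.zpowers z := by
      refine h.center x hx fun y hy => ?_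
      refine comm_of_comm h (exp' h hy) (hc _ ⟨y, hy, rfl⟩)
    obtain ⟨n, rfl⟩ := h1
    exact ⟨n, (map_zpow _ _ _).symm⟩
  · intro g x hx hT
    obtain ⟨g, rfl⟩ := hsurj g
    obtain ⟨u, hu, hu2, rfl⟩ : ∃ u, (u ∈ U1 ∨ u ∈ U2) ∧ u ^ 3 ^ 1 = 1 ∧ QuotientGroup.mk' Z u = x := by
      rcases hx with ⟨u, hu, rfl⟩ | ⟨u, hu, rfl⟩
      · exact ⟨u, Or.inl hu, exp' h (h.le1 hu), rfl⟩
      · exact ⟨u, Or.inr hu, exp' h (h.le2 hu), rfl⟩
    rw [← map_inv, ← map_mul, ← map_mul] at hT ⊢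
    have h1 : (g * u * g⁻¹) ^ 3 ^ 1 = 1 := by rw [conj_pow, hu2, mul_one, mul_inv_cancel]
    rw [mem_map_iff h le_rfl h1] at hT
    rw [mem_map_iff h h.le1 h1, mem_map_iff h h.le2 h1]
    exact h.type g u hu hT
  · intro g
    obtain ⟨g, rfl⟩ := hsurj g
    obtain ⟨u, hu, hu2⟩ := h.not_conj g
    refine ⟨_, ⟨u, hu, rfl⟩, ?_⟩
    rw [← map_inv, ← map_mul, ← map_mul, mem_map_iff h h.le2 (k := 1)]
    · exact hu2
    · rw [conj_pow, exp' h (h.le1 hu), mul_one, mul_inv_cancel]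
  · intro R hR h3R
    have h1 : R.comap (QuotientGroup.mk' Z) ≤ Z := by
      refine h.sig _ (fun t ht r hr => ?_) ?_
      · rw [Subgroup.mem_comap, map_mul, map_mul, map_inv]
        exact hR _ ⟨t, ht, rfl⟩ _ hr
      · have hcard : Nat.card ↥(R.comap (QuotientGroup.mk' Z)) = Nat.card Z * Nat.card R :=
          QuotientGroup.card_preimage_mk Z (R : Set (Γ ⧸ Z))
        rw [hcard]
        intro hd
        rcases (Nat.Prime.dvd_mul Nat.prime_three).1 hd with hd | hd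
        · exact h.Z_card hd
        · exact h3R hd
    intro y hy
    obtain ⟨x, rfl⟩ := hsurj y
    rw [Subgroup.mem_bot]
    exact (QuotientGroup.eq_one_iff x).2 (h1 hy)
  · intro N hN h3N
    obtain ⟨P, hP, rfl⟩ := exists_lift h3N
    have h1 : P = ⊥ := by
      refine h.core P ⟨fun p hp g => ?_⟩ hP
      have h2 : QuotientGroup.mk' Z (g * p * g⁻¹) ∈ P.map (QuotientGroup.mk' Z) := by
        rw [map_mul, map_mul, map_inv]
        exact hN.conj_mem _ ⟨p, hp, rfl⟩ _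
      obtain ⟨p', hp', e⟩ := h2
      obtain ⟨k, hk⟩ := exists_pow_of_isPGroup hP hp
      obtain ⟨l, hl⟩ := exists_pow_of_isPGroup hP hp'
      rw [← eq_of_eq h hl (by rw [conj_pow, hk, mul_one, mul_inv_cancel]) e]
      exact hp'
    rw [h1, Subgroup.map_bot]
  · intro x hx hx1 P Q hP hQ hPx hQx
    obtain ⟨u, hu, hu2, rfl⟩ : ∃ u, (u ∈ U1 ∨ u ∈ U2) ∧ u ^ 3 ^ 1 = 1 ∧ QuotientGroup.mk' Z u = x := by
      rcases hx with ⟨u, hu, rfl⟩ | ⟨u, hu, rfl⟩
      · exact ⟨u, Or.inl hu, exp' h (h.le1 hu), rfl⟩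
      · exact ⟨u, Or.inr hu, exp' h (h.le2 hu), rfl⟩
    obtain ⟨P, hP', rfl⟩ := exists_lift hP
    obtain ⟨Q, hQ', rfl⟩ := exists_lift hQ
    rw [← Subgroup.map_sup]
    refine (h.tri u hu ?_ P Q hP' hQ' (fun p hp => ?_) (fun q hq => ?_)).map _
    · rintro rfl
      exact hx1 (map_one _)
    · exact Subgroup.mem_centralizer_singleton_iff.2 (comm_of_comm h hu2
        (Subgroup.mem_centralizer_singleton_iff.1 (hPx ⟨p, hp, rfl⟩)))
    · exact Subgroup.mem_centralizer_singleton_iff.2 (comm_of_comm h hu2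
        (Subgroup.mem_centralizer_singleton_iff.1 (hQx ⟨q, hq, rfl⟩)))
  · rintro _ ⟨x, hx, rfl⟩ h1 h2
    rw [card_syl h hx]
    exact h.reg x hx (fun h4 => h1 ⟨x, h4, rfl⟩) (fun h4 => h2 ⟨x, h4, rfl⟩)
  · rintro _ ⟨x, hx, rfl⟩ h1 h2 _ ⟨y, hy, rfl⟩ h4 h5
    obtain ⟨g, hg⟩ := h.reg_conj x hx (fun h6 => h1 ⟨x, h6, rfl⟩) (fun h6 => h2 ⟨x, h6, rfl⟩) y hy
      (fun h6 => h4 ⟨y, h6, rfl⟩) (fun h6 => h5 ⟨y, h6, rfl⟩)
    refine ⟨QuotientGroup.mk' Z g, ?_⟩
    rw [← map_inv, ← map_mul, ← map_mul, ← map_inv]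
    rcases hg with hg | hg
    · exact Or.inl (by rw [hg])
    · exact Or.inr (by rw [hg])

end Cfsg.Agent.H12.Co1
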